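import Mathlib

/-!
The symmetric group as the Coxeter group of type A.
-/

set_option autoImplicit false

namespace CfsgLib.CoxeterA

open CoxeterMatrix

section Norm

variable {W : Type*} [Group W] (n : ℕ) (r : ℕ → W)

/-- `r_k r_{k+1} ⋯ r_{n-1}`. -/
def desc (k : ℕ) : W := ((List.range' k (n - k)).map r).prod

variable {n r}

lemma desc_succ {k : ℕ} (hk : k < n) : desc n r k = r k * desc n r (k + 1) := by
  rw [desc, desc, show n - k = n - (k + 1) + 1 by omega, List.range'_succ, List.map_cons,
    List.prod_cons]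

lemma desc_self : desc n r n = 1 := by simp [desc]

lemma desc_comm {j : ℕ} (hc : ∀ k, j + 1 < k → k < n → Commute (r j) (r k)) :
    ∀ k, j + 1 < k → Commute (r j) (desc n r k) := fun k hk => by
  refine Commute.list_prod_right _ _ fun x hx => ?_
  obtain ⟨i, hi, rfl⟩ := List.mem_map.1 hx
  rw [List.mem_range'] at hi
  obtain ⟨a, ha, rfl⟩ := hi
  exact hc _ (by omega) (by omega)

lemma mul_desc_of_lt
    (hc : ∀ j k, j + 1 < k → k < n → Commute (r j) (r k))
    (hb : ∀ k, k + 1 < n → r (k + 1) * r k * r (k + 1) = r k * r (k + 1) * r k) :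
    ∀ d k, k + d + 1 < n → r (k + d + 1) * desc n r k = desc n r k * r (k + d) := by
  intro d
  induction d with
  | zero =>
    intro k hk
    have e := desc_comm (fun i h1 h2 => hc k i h1 h2) (k + 2) (by omega)
    rw [desc_succ (show k < n by omega), desc_succ (show k + 1 < n by omega)]
    simp only [add_zero, ← mul_assoc]
    rw [hb k (by omega), mul_assoc (r k * r (k + 1)), e.eq, ← mul_assoc]
  | succ d ih =>
    intro k hk
    rw [desc_succ (show k < n by omega), ← mul_assoc,
      ← (hc k (k + (d + 1) + 1) (by omega) (by omega)).eq, mul_assoc, mul_assoc]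
    congr 1
    have := ih (k + 1) (by omega)
    rw [show k + 1 + d + 1 = k + (d + 1) + 1 by omega, show k + 1 + d = k + (d + 1) by omega] at this
    exact this

/-- A group generated by `r_0, …, r_{n-1}` with the relations of type A is covered by `n + 1`
cosets of the subgroup generated by all but the last. -/
lemma exists_desc_mul (hsq : ∀ k < n, r k * r k = 1)
    (hc : ∀ j k, j + 1 < k → k < n → Commute (r j) (r k))
    (hb : ∀ k, k + 1 < n → r (k + 1) * r k * r (k + 1) = r k * r (k + 1) * r k)
    (H : Subgroup W) (hH : ∀ k, k + 1 < n → r k ∈ H)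
    (hgen : Subgroup.closure (r '' {k | k < n}) = ⊤) (g : W) :
    ∃ k ≤ n, ∃ h ∈ H, g = desc n r k * h := by
  have step : ∀ j < n, ∀ k ≤ n, ∀ h ∈ H, ∃ k' ≤ n, ∃ h' ∈ H,
      r j * (desc n r k * h) = desc n r k' * h' := by
    intro j hj k hk h hh
    rcases lt_trichotomy j k with hlt | rfl | hgt
    · by_cases e : j + 1 = k
      · subst e
        exact ⟨j, by omega, h, hh, by rw [desc_succ hj, mul_assoc]⟩
      · refine ⟨k, hk, r j * h, mul_mem (hH j (by omega)) hh, ?_⟩
        rw [← mul_assoc, (desc_comm (fun i h1 h2 => hc j i h1 h2) k (by omega)).eq, mul_assoc]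
    · exact ⟨j + 1, hj, h, hh, by rw [desc_succ hj, ← mul_assoc, ← mul_assoc, hsq j hj, one_mul]⟩
    · refine ⟨k, hk, r (j - 1) * h, mul_mem (hH _ (by omega)) hh, ?_⟩
      have := mul_desc_of_lt hc hb (j - k - 1) k (by omega)
      rw [show k + (j - k - 1) + 1 = j by omega, show k + (j - k - 1) = j - 1 by omega] at this
      rw [← mul_assoc, this, mul_assoc]
  have hg : g ∈ Subgroup.closure (r '' {k | k < n}) := hgen ▸ Subgroup.mem_top g
  induction hg using Subgroup.closure_induction_left with
  | one => exact ⟨n, le_rfl, 1, one_mem _, by rw [desc_self, one_mul]⟩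
  | mul_left x hx y _ ih =>
    obtain ⟨j, hj, rfl⟩ := hx
    obtain ⟨k, hk, h, hh, rfl⟩ := ih
    exact step j hj k hk h hh
  | inv_mul_cancel x hx y _ ih =>
    obtain ⟨j, hj, rfl⟩ := hx
    obtain ⟨k, hk, h, hh, rfl⟩ := ih
    rw [inv_eq_of_mul_eq_one_right (hsq j hj)]
    exact step j hj k hk h hh

end Norm

/-- The generators, indexed by natural numbers. -/
def gen (n k : ℕ) : (CoxeterMatrix.A n).Group :=
  if h : k < n then (CoxeterMatrix.A n).simple ⟨k, h⟩ else 1

lemma gen_coe {n : ℕ} (i : Fin n) :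
    gen n i = (CoxeterMatrix.A n).toCoxeterSystem.simple i := by
  rw [gen, dif_pos i.isLt]; rfl

lemma A_apply {n : ℕ} (i j : Fin n) : (CoxeterMatrix.A n) i j =
    if i = j then 1 else if (j : ℕ) + 1 = i ∨ (i : ℕ) + 1 = j then 3 else 2 := rfl

/-- The order is at most `(n + 1)!`. -/
theorem card_le : ∀ n : ℕ, Finite (CoxeterMatrix.A n).Group ∧
    Nat.card (CoxeterMatrix.A n).Group ≤ (n + 1).factorial := by
  intro n
  induction n with
  | zero =>
    have hone : ∀ g : (CoxeterMatrix.A 0).Group, g = 1 := by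
      intro g
      have hg : g ∈ Subgroup.closure (Set.range (CoxeterMatrix.A 0).toCoxeterSystem.simple) := by
        rw [CoxeterSystem.subgroup_closure_range_simple]; exact Subgroup.mem_top g
      simpa [Set.range_eq_empty] using hg
    have : Subsingleton (CoxeterMatrix.A 0).Group := ⟨fun a b => by rw [hone a, hone b]⟩
    exact ⟨inferInstance, by simp⟩
  | succ n ih =>
    obtain ⟨hfin, hle⟩ := ih
    set M := CoxeterMatrix.A (n + 1)
    let cs := M.toCoxeterSystem
    have hrel : ∀ i j : Fin (n + 1), (cs.simple i * cs.simple j) ^ M i j = 1 :=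
      cs.simple_mul_simple_pow
    have hsq : ∀ k < n + 1, gen (n + 1) k * gen (n + 1) k = 1 := fun k hk => by
      rw [show k = ((⟨k, hk⟩ : Fin (n + 1)) : ℕ) from rfl, gen_coe]
      exact cs.simple_mul_simple_self _
    have hc : ∀ j k, j + 1 < k → k < n + 1 → Commute (gen (n + 1) j) (gen (n + 1) k) := by
      intro j k hjk hk
      have h1 := hrel ⟨j, by omega⟩ ⟨k, hk⟩
      rw [A_apply, if_neg (by simp [Fin.ext_iff]; omega), if_neg (by simp; omega), ← gen_coe,
        ← gen_coe, sq] at h1
      have h2 := mul_eq_one_iff_eq_inv.1 h1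
      rw [mul_inv_rev, inv_eq_of_mul_eq_one_right (hsq k hk),
        inv_eq_of_mul_eq_one_right (hsq j (by omega))] at h2
      exact h2
    have hb : ∀ k, k + 1 < n + 1 → gen (n + 1) (k + 1) * gen (n + 1) k * gen (n + 1) (k + 1) =
        gen (n + 1) k * gen (n + 1) (k + 1) * gen (n + 1) k := by
      intro k hk
      have h1 := hrel ⟨k + 1, hk⟩ ⟨k, by omega⟩
      rw [A_apply, if_neg (by simp [Fin.ext_iff]), if_pos (Or.inl rfl), ← gen_coe, ← gen_coe] at h1
      simp only at h1
      rw [pow_succ, sq] at h1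
      have ha := inv_eq_of_mul_eq_one_right (hsq (k + 1) hk)
      have hb := inv_eq_of_mul_eq_one_right (hsq k (by omega))
      generalize gen (n + 1) (k + 1) = a, gen (n + 1) k = b at h1 ha hb ⊢
      have h2 : a * b * a = (b * a * b)⁻¹ := by
        rw [eq_inv_iff_mul_eq_one]; simpa [mul_assoc] using h1
      rw [h2, mul_inv_rev, mul_inv_rev, ha, hb, ← mul_assoc]
    have hlift : (CoxeterMatrix.A n).IsLiftable fun i : Fin n => cs.simple i.castSucc := by
      intro i j
      have h1 := hrel i.castSucc j.castSucc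
      rw [A_apply] at h1 ⊢
      simpa [Fin.ext_iff] using h1
    let ι := (CoxeterMatrix.A n).toCoxeterSystem.lift ⟨_, hlift⟩
    have hH : ∀ k, k + 1 < n + 1 → gen (n + 1) k ∈ ι.range := fun k hk => by
      refine ⟨(CoxeterMatrix.A n).toCoxeterSystem.simple ⟨k, by omega⟩, ?_⟩
      rw [CoxeterSystem.lift_apply_simple]
      exact (gen_coe (n := n + 1) ⟨k, by omega⟩).symm
    have hgen : Subgroup.closure (gen (n + 1) '' {k | k < n + 1}) = ⊤ := by
      rw [← cs.subgroup_closure_range_simple]
      congr 1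
      ext g
      constructor
      · rintro ⟨k, hk, rfl⟩
        exact ⟨⟨k, hk⟩, (gen_coe (n := n + 1) ⟨k, hk⟩).symm⟩
      · rintro ⟨i, rfl⟩
        exact ⟨i, i.isLt, gen_coe i⟩
    let f : Fin (n + 2) × (CoxeterMatrix.A n).Group → M.Group := fun p =>
      desc (n + 1) (gen (n + 1)) p.1 * ι p.2
    have hf : Function.Surjective f := fun g => by
      obtain ⟨k, hk, h, ⟨w, rfl⟩, rfl⟩ := exists_desc_mul hsq hc hb ι.range hH hgen g
      exact ⟨(⟨k, by omega⟩, w), rfl⟩
    refine ⟨Finite.of_surjective f hf, (Nat.card_le_card_of_surjective f hf).trans ?_⟩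
    rw [Nat.card_prod, Nat.card_fin, Nat.factorial_succ]
    exact Nat.mul_le_mul le_rfl hle

/-- `S_{n+1}` is the Coxeter group of type `A_n`. -/
theorem exists_system (n : ℕ) :
    ∃ cs : CoxeterSystem (CoxeterMatrix.A n) (Equiv.Perm (Fin (n + 1))),
      ∀ i : Fin n, cs.simple i = Equiv.swap i.castSucc i.succ := by
  classical
  have hl : (CoxeterMatrix.A n).IsLiftable fun i : Fin n =>
      (Equiv.swap i.castSucc i.succ : Equiv.Perm (Fin (n + 1))) := by
    intro i j
    beta_reduce
    rw [A_apply]
    by_cases h1 : i = j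
    · subst h1; simp
    rw [if_neg h1]
    have hij : (i : ℕ) ≠ j := fun e => h1 (Fin.ext e)
    by_cases h2 : (j : ℕ) + 1 = i ∨ (i : ℕ) + 1 = j
    · rw [if_pos h2]
      have key : ∀ a b c : Fin (n + 1), a ≠ b → a ≠ c → b ≠ c →
          (Equiv.swap a b * Equiv.swap b c) ^ 3 = 1 := fun a b c hab hac hbc => by
        have h := (Equiv.Perm.isThreeCycle_swap_mul_swap_same (a := b) (b := a) (c := c) hab.symm hbc hac).orderOf
        rw [Equiv.swap_comm b a] at h
        rw [← h]; exact pow_orderOf_eq_one _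
      rcases h2 with h2 | h2
      · have e : i.castSucc = j.succ := Fin.ext (by simp; omega)
        rw [e, Equiv.swap_comm j.succ i.succ, Equiv.swap_comm j.castSucc j.succ]
        exact key _ _ _ (by simp [Fin.ext_iff]; omega) (by simp [Fin.ext_iff]; omega)
          (by simp [Fin.ext_iff])
      · have e : i.succ = j.castSucc := Fin.ext (by simp; omega)
        rw [e]
        exact key _ _ _ (by simp [Fin.ext_iff]; omega) (by simp [Fin.ext_iff]; omega)
          (by simp [Fin.ext_iff])
    · rw [if_neg h2, sq]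
      have hd : Equiv.Perm.Disjoint (Equiv.swap i.castSucc i.succ)
          (Equiv.swap j.castSucc j.succ) := by
        intro x
        by_contra hx
        push Not at hx
        obtain ⟨hx1, hx2⟩ := hx
        have a := (Equiv.swap_apply_ne_self_iff.1 hx1).2
        have b := (Equiv.swap_apply_ne_self_iff.1 hx2).2
        simp only [Fin.ext_iff, Fin.val_castSucc, Fin.val_succ] at a b
        omega
      rw [mul_assoc, ← mul_assoc (Equiv.swap j.castSucc j.succ), ← hd.commute.eq]
      simp [mul_assoc]
  let φ := (CoxeterMatrix.A n).toCoxeterSystem.lift ⟨_, hl⟩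
  have hφ : ∀ i, φ ((CoxeterMatrix.A n).toCoxeterSystem.simple i) =
      Equiv.swap i.castSucc i.succ :=
    fun i => CoxeterSystem.lift_apply_simple _ hl i
  have hsurj : Function.Surjective φ := by
    intro g
    have hg : g ∈ Submonoid.closure
        (Set.range fun i : Fin n => Equiv.swap i.castSucc i.succ) := by
      rw [Equiv.Perm.mclosure_swap_castSucc_succ]; trivial
    have hle : Submonoid.closure (Set.range fun i : Fin n => Equiv.swap i.castSucc i.succ) ≤
        MonoidHom.mrange φ := by
      rw [Submonoid.closure_le]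
      rintro _ ⟨i, rfl⟩
      exact ⟨_, hφ i⟩
    exact hle hg
  obtain ⟨hfin, hle⟩ := card_le n
  have hbij : Function.Bijective φ := by
    refine hsurj.bijective_of_nat_card_le ?_
    rw [Nat.card_perm, Nat.card_fin]
    exact hle
  refine ⟨⟨(MulEquiv.ofBijective φ hbij).symm⟩, fun i => ?_⟩
  exact hφ i

end CfsgLib.CoxeterA
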