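import Cfsg.Agent.Lib.Coxeter.Exchange

/-!
Minimal representatives of double cosets of standard subgroups, and the longest element.
-/

set_option autoImplicit false

namespace CfsgLib.Coxeter

open Set

variable {W : Type*} [Group W] {ι : Type*} {σ : ι → W}

/-- The standard subgroup of a set of generators. -/
def std (σ : ι → W) (J : Set ι) : Subgroup W := Subgroup.closure (σ '' J)

/-- No descent in `K` on the right. -/
def RFree (σ : ι → W) (K : Set ι) (w : W) : Prop := ∀ k ∈ K, len σ w ≤ len σ (w * σ k)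

/-- No descent in `J` on the left. -/
def LFree (σ : ι → W) (J : Set ι) (w : W) : Prop := ∀ j ∈ J, len σ w ≤ len σ (σ j * w)

/-- All generators are right descents. -/
def IsLongest (σ : ι → W) (w : W) : Prop := ∀ i, len σ (w * σ i) < len σ w

/-- `y` is a length-additive product `a x c` with letters of `a`, `c` in `J`, `K`. -/
def Additive3 (σ : ι → W) (J K : Set ι) (x y : W) : Prop :=
  ∃ A C : List ι, (∀ i ∈ A, i ∈ J) ∧ (∀ i ∈ C, i ∈ K) ∧ y = wprod σ A * x * wprod σ C ∧
    len σ y = A.length + len σ x + C.length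

namespace Gens

variable (hσ : Gens σ)
include hσ

lemma exists_std_word {J : Set ι} {v : W} (hv : v ∈ std σ J) :
    ∃ L : List ι, (∀ i ∈ L, i ∈ J) ∧ wprod σ L = v := by
  induction hv using Subgroup.closure_induction with
  | one => exact ⟨[], by simp, rfl⟩
  | mem x hx => obtain ⟨i, hi, rfl⟩ := hx; exact ⟨[i], by simpa using hi, by simp⟩
  | mul x y _ _ hx hy =>
    obtain ⟨A, hA, rfl⟩ := hx
    obtain ⟨B, hB, rfl⟩ := hy
    refine ⟨A ++ B, fun i hi => ?_, wprod_append σ A B⟩
    rcases List.mem_append.1 hi with hi | hi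
    exacts [hA i hi, hB i hi]
  | inv x _ hx =>
    obtain ⟨A, hA, rfl⟩ := hx
    exact ⟨A.reverse, fun i hi => hA i (List.mem_reverse.1 hi), hσ.wprod_reverse A⟩

omit hσ in
lemma wprod_mem_std {J : Set ι} {L : List ι} (hL : ∀ i ∈ L, i ∈ J) : wprod σ L ∈ std σ J := by
  refine list_prod_mem fun x hx => ?_
  obtain ⟨i, hi, rfl⟩ := List.mem_map.1 hx
  exact Subgroup.subset_closure ⟨i, hL i hi, rfl⟩

lemma len_mul_gen (w : W) (i : ι) : len σ (w * σ i) = len σ (σ i * w⁻¹) := by
  rw [← hσ.len_inv, mul_inv_rev, hσ.inv_eq]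

lemma lfree_inv {K : Set ι} {w : W} : LFree σ K w⁻¹ ↔ RFree σ K w := by
  simp only [LFree, RFree, hσ.len_inv, hσ.len_mul_gen]

lemma additive3_inv {J K : Set ι} {x y : W} (h : Additive3 σ J K x y) :
    Additive3 σ K J x⁻¹ y⁻¹ := by
  obtain ⟨A, C, hA, hC, rfl, hlen⟩ := h
  refine ⟨C.reverse, A.reverse, fun i hi => hC i (List.mem_reverse.1 hi),
    fun i hi => hA i (List.mem_reverse.1 hi), ?_, ?_⟩
  · rw [mul_inv_rev, mul_inv_rev, hσ.wprod_reverse, hσ.wprod_reverse, mul_assoc]
  · rw [hσ.len_inv, hlen, hσ.len_inv, List.length_reverse, List.length_reverse]; omega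

variable (hex : Exchange σ)
include hex

/-- One step of the double coset decomposition. -/
lemma additive3_step {J K : Set ι} {x : W}
    (hmin : ∀ a ∈ std σ J, ∀ c ∈ std σ K, len σ x ≤ len σ (a * x * c)) {y : W}
    (h : Additive3 σ J K x y) {s : ι} (hs : s ∈ J) : Additive3 σ J K x (σ s * y) := by
  obtain ⟨A, C, hA, hC, rfl, hlen⟩ := h
  obtain ⟨X, hX, hXp, hXl⟩ := hσ.exists_red x
  subst hXp
  have hL : IsRed σ (A ++ X ++ C) := by
    unfold IsRed
    rw [wprod_append, wprod_append, hlen, List.length_append, List.length_append, hXl]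
  by_cases hc : len σ (σ s * (wprod σ A * wprod σ X * wprod σ C)) ≤ (A ++ X ++ C).length
  swap
  · refine ⟨s :: A, C, fun i hi => ?_, hC, by simp [mul_assoc], ?_⟩
    · rcases List.mem_cons.1 hi with rfl | hi
      exacts [hs, hA i hi]
    · have h1 := hσ.len_gen_mul_le s (wprod σ A * wprod σ X * wprod σ C)
      rw [List.length_append, List.length_append] at hc
      rw [List.length_cons]
      omega
  obtain ⟨j, hj, e, hr⟩ := hσ.exchange_red hex hL (i := s)
    (by rwa [wprod_append, wprod_append])
  rw [wprod_append, wprod_append] at e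
  rw [List.length_append, List.length_append] at hj
  unfold IsRed at hr
  rw [List.length_eraseIdx_of_lt (by rw [List.length_append, List.length_append]; omega),
    List.length_append, List.length_append, ← e] at hr
  rcases Nat.lt_or_ge j A.length with h1 | h1
  · rw [List.eraseIdx_append_of_lt_length (by rw [List.length_append]; omega),
      List.eraseIdx_append_of_lt_length h1, wprod_append, wprod_append] at e
    refine ⟨A.eraseIdx j, C, fun i hi => hA i (List.mem_of_mem_eraseIdx hi), hC, e, ?_⟩
    rw [hr, List.length_eraseIdx_of_lt h1]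
    omega
  rcases Nat.lt_or_ge j (A.length + X.length) with h2 | h2
  · exfalso
    rw [List.eraseIdx_append_of_lt_length (by rw [List.length_append]; omega),
      List.eraseIdx_append_of_length_le h1, wprod_append, wprod_append] at e
    set x' := X.eraseIdx (j - A.length)
    have hx' : wprod σ x' = ((wprod σ A)⁻¹ * σ s * wprod σ A) * wprod σ X * 1 := by
      rw [mul_one]
      have e' := congrArg (fun z => (wprod σ A)⁻¹ * z * (wprod σ C)⁻¹) e
      rw [show (wprod σ A)⁻¹ * (wprod σ A * wprod σ x' * wprod σ C) * (wprod σ C)⁻¹ =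
        wprod σ x' by group] at e'
      rw [← e']
      group
    have h3 := hmin _ (mul_mem (mul_mem (inv_mem (wprod_mem_std hA))
      (Subgroup.subset_closure ⟨s, hs, rfl⟩)) (wprod_mem_std hA)) 1 (one_mem _)
    rw [← hx'] at h3
    have h4 := len_le (σ := σ) x'
    rw [List.length_eraseIdx_of_lt (by omega)] at h4
    omega
  · rw [List.eraseIdx_append_of_length_le (by rw [List.length_append]; omega), wprod_append,
      wprod_append] at e
    refine ⟨A, C.eraseIdx (j - (A ++ X).length), hA,
      fun i hi => hC i (List.mem_of_mem_eraseIdx hi), e, ?_⟩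
    rw [hr, List.length_eraseIdx_of_lt (by rw [List.length_append]; omega)]
    omega

/-- A double coset is the additive product around its minimal element. -/
theorem additive3_of_min {J K : Set ι} {x : W}
    (hmin : ∀ a ∈ std σ J, ∀ c ∈ std σ K, len σ x ≤ len σ (a * x * c))
    {a c : W} (ha : a ∈ std σ J) (hc : c ∈ std σ K) : Additive3 σ J K x (a * x * c) := by
  obtain ⟨C, hC, rfl⟩ := hσ.exists_std_word hc
  obtain ⟨A, hA, rfl⟩ := hσ.exists_std_word ha
  have hmin' : ∀ a ∈ std σ K, ∀ c ∈ std σ J, len σ x⁻¹ ≤ len σ (a * x⁻¹ * c) := by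
    intro a ha c hc
    rw [← hσ.len_inv (a * x⁻¹ * c), mul_inv_rev, mul_inv_rev, inv_inv, hσ.len_inv, ← mul_assoc]
    exact hmin _ (inv_mem hc) _ (inv_mem ha)
  have h1 : Additive3 σ J K x (x * wprod σ C) := by
    have : Additive3 σ K J x⁻¹ (wprod σ C.reverse * x⁻¹) := by
      have hC' : ∀ i ∈ C.reverse, i ∈ K := fun i hi => hC i (List.mem_reverse.1 hi)
      generalize C.reverse = L at hC' ⊢
      induction L with
      | nil => exact ⟨[], [], by simp, by simp, by simp, by simp⟩
      | cons i L ih =>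
        rw [wprod_cons, mul_assoc]
        exact hσ.additive3_step hex hmin' (ih fun k hk => hC' k (List.mem_cons_of_mem _ hk))
          (hC' i List.mem_cons_self)
    have := hσ.additive3_inv this
    rwa [inv_inv, mul_inv_rev, inv_inv, hσ.wprod_reverse, inv_inv] at this
  induction A with
  | nil => simpa using h1
  | cons i A ih =>
    rw [wprod_cons, mul_assoc (σ i), mul_assoc (σ i)]
    exact hσ.additive3_step hex hmin (ih (fun k hk => hA k (List.mem_cons_of_mem _ hk))
      (wprod_mem_std fun k hk => hA k (List.mem_cons_of_mem _ hk))) (hA i List.mem_cons_self)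

omit hσ hex in
lemma exists_min (J K : Set ι) (w : W) : ∃ a ∈ std σ J, ∃ c ∈ std σ K,
    ∀ a' ∈ std σ J, ∀ c' ∈ std σ K,
      len σ (a * w * c) ≤ len σ (a' * (a * w * c) * c') := by
  classical
  have : ∃ n, ∃ a ∈ std σ J, ∃ c ∈ std σ K, len σ (a * w * c) = n :=
    ⟨_, 1, one_mem _, 1, one_mem _, rfl⟩
  obtain ⟨a, ha, c, hc, e⟩ := Nat.find_spec this
  refine ⟨a, ha, c, hc, fun a' ha' c' hc' => ?_⟩
  rw [e]
  exact Nat.find_min' this ⟨a' * a, mul_mem ha' ha, c * c', mul_mem hc hc', by simp [mul_assoc]⟩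

/-- An element free on both sides is the minimal element of its double coset. -/
theorem eq_min_of_free {J K : Set ι} {x a c : W}
    (hmin : ∀ a ∈ std σ J, ∀ c ∈ std σ K, len σ x ≤ len σ (a * x * c))
    (ha : a ∈ std σ J) (hc : c ∈ std σ K) (hl : LFree σ J (a * x * c))
    (hr : RFree σ K (a * x * c)) : a * x * c = x := by
  obtain ⟨A, C, hA, hC, e, hlen⟩ := hσ.additive3_of_min hex hmin ha hc
  rcases A with _ | ⟨i, A⟩
  swap
  · exfalso
    have h1 := hl i (hA i List.mem_cons_self)
    have e2 : σ i * (a * x * c) = wprod σ A * x * wprod σ C := by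
      rw [e, wprod_cons, mul_assoc (σ i), mul_assoc (σ i), hσ.cancel_left]
    rw [e2] at h1
    have h2 := hσ.len_mul_le (wprod σ A * x) (wprod σ C)
    have h3 := hσ.len_mul_le (wprod σ A) x
    have := len_le (σ := σ) A
    have := len_le (σ := σ) C
    rw [List.length_cons] at hlen
    omega
  rcases List.eq_nil_or_concat' C with rfl | ⟨C', k, rfl⟩
  · simpa using e
  exfalso
  have h1 := hr k (hC k (by simp))
  have e2 : a * x * c * σ k = x * wprod σ C' := by
    rw [e, wprod_nil, one_mul, wprod_append, wprod_cons, wprod_nil, mul_one, mul_assoc,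
      mul_assoc, hσ.sq, mul_one]
  rw [e2] at h1
  have h2 := hσ.len_mul_le x (wprod σ C')
  have := len_le (σ := σ) C'
  rw [List.length_append, List.length_singleton] at hlen
  simp only [List.length_nil] at hlen
  omega

/-- Free elements are unique in their double coset. -/
theorem free_unique {J K : Set ι} {w a c : W} (ha : a ∈ std σ J) (hc : c ∈ std σ K)
    (hl : LFree σ J w) (hr : RFree σ K w) (hl' : LFree σ J (a * w * c))
    (hr' : RFree σ K (a * w * c)) : a * w * c = w := by
  obtain ⟨p, hp, q, hq, hmin⟩ := exists_min (σ := σ) J K w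
  have e1 : p⁻¹ * (p * w * q) * q⁻¹ = w := by group
  have e2 : (a * p⁻¹) * (p * w * q) * (q⁻¹ * c) = a * w * c := by group
  have h1 := hσ.eq_min_of_free hex hmin (inv_mem hp) (inv_mem hq)
    (by rw [e1]; exact hl) (by rw [e1]; exact hr)
  have h2 := hσ.eq_min_of_free hex hmin (mul_mem ha (inv_mem hp)) (mul_mem (inv_mem hq) hc)
    (by rw [e2]; exact hl') (by rw [e2]; exact hr')
  rw [e2] at h2
  rw [e1] at h1
  rw [h2, ← h1]

omit hσ hex in
/-- Every double coset has a free element. -/
theorem exists_free (J K : Set ι) (w : W) : ∃ a ∈ std σ J, ∃ c ∈ std σ K,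
    LFree σ J (a * w * c) ∧ RFree σ K (a * w * c) := by
  obtain ⟨a, ha, c, hc, hmin⟩ := exists_min (σ := σ) J K w
  refine ⟨a, ha, c, hc, fun j hj => ?_, fun k hk => ?_⟩
  · simpa using hmin (σ j) (Subgroup.subset_closure ⟨j, hj, rfl⟩) 1 (one_mem _)
  · simpa using hmin 1 (one_mem _) (σ k) (Subgroup.subset_closure ⟨k, hk, rfl⟩)

/-- The length drops along an element with all descents in `K`. -/
theorem len_mul_of_descents {K : Set ι} {w : W} (hw : ∀ i ∈ K, len σ (w * σ i) < len σ w)
    {v : W} (hv : v ∈ std σ K) : len σ (w * v) + len σ v = len σ w := by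
  obtain ⟨L₀, hL₀, rfl⟩ := hσ.exists_std_word hv
  obtain ⟨L, hL, e₀, hsub⟩ := hσ.exists_red_subset hex L₀
  rw [← e₀]
  replace hsub : ∀ i ∈ L, i ∈ K := fun i hi => hL₀ i (hsub i hi)
  clear e₀
  induction L with
  | nil => simp [hσ.len_eq_zero.2 rfl]
  | cons t L ih =>
    have hr := hσ.red_tail hL
    have h1 := ih hr fun i hi => hsub i (List.mem_cons_of_mem _ hi)
    rw [hr] at h1
    obtain ⟨R, hR, hRp, hRl⟩ := hσ.exists_red (w * wprod σ L)
    have hwd : w = wprod σ (R ++ L.reverse) := by
      rw [wprod_append, hRp, hσ.wprod_reverse, mul_inv_cancel_right]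
    have hred : IsRed σ (L ++ R.reverse) := by
      unfold IsRed
      rw [wprod_append, hσ.wprod_reverse, hRp, ← hσ.len_inv]
      simp only [mul_inv_rev, inv_inv, mul_assoc, mul_inv_cancel, mul_one, List.length_append,
        List.length_reverse]
      omega
    have hlt : len σ (σ t * wprod σ (L ++ R.reverse)) ≤ (L ++ R.reverse).length := by
      rw [← hred]
      have h2 := hw t (hsub t List.mem_cons_self)
      rw [hσ.len_mul_gen, ← hσ.len_inv w] at h2
      have e : wprod σ (L ++ R.reverse) = w⁻¹ := by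
        rw [wprod_append, hσ.wprod_reverse, hRp, mul_inv_rev, mul_inv_cancel_left]
      rw [e]; omega
    obtain ⟨j, hj, e, -⟩ := hσ.exchange_red hex hred hlt
    rw [List.length_append, List.length_reverse] at hj
    rcases Nat.lt_or_ge j L.length with h2 | h2
    · exfalso
      rw [List.eraseIdx_append_of_lt_length h2, wprod_append, wprod_append, ← mul_assoc,
        mul_left_inj] at e
      have h3 : len σ (wprod σ (t :: L)) = L.length + 1 := by rw [hL, List.length_cons]
      rw [wprod_cons, e] at h3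
      have := len_le (σ := σ) (L.eraseIdx j)
      rw [List.length_eraseIdx_of_lt h2] at this
      omega
    · rw [List.eraseIdx_append_of_length_le h2, wprod_append, wprod_append] at e
      set R' := (R.reverse).eraseIdx (j - L.length)
      have hR' : (w * wprod σ (t :: L))⁻¹ = wprod σ R' := by
        have e' : wprod σ L * wprod σ R.reverse = w⁻¹ := by
          rw [hσ.wprod_reverse, hRp, mul_inv_rev, mul_inv_cancel_left]
        rw [← mul_assoc, mul_assoc (σ t), e'] at e
        rw [mul_inv_rev, wprod_cons, mul_inv_rev, hσ.inv_eq, mul_assoc, e, inv_mul_cancel_left]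
      have h3 := len_le (σ := σ) R'
      rw [← hR', hσ.len_inv, List.length_eraseIdx_of_lt (by rw [List.length_reverse]; omega),
        List.length_reverse] at h3
      have h4 := hσ.len_mul_le (w * wprod σ (t :: L)) (wprod σ (t :: L))⁻¹
      rw [mul_inv_cancel_right, hσ.len_inv, hL, List.length_cons] at h4
      rw [hL, List.length_cons]
      omega

/-- The length drops along the longest element. -/
theorem len_longest_mul {w : W} (hw : IsLongest σ w) (v : W) :
    len σ (w * v) + len σ v = len σ w := by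
  obtain ⟨L, rfl⟩ := hσ.exists_word v
  exact hσ.len_mul_of_descents hex (K := Set.univ) (fun i _ => hw i)
    (wprod_mem_std fun i _ => Set.mem_univ i)

/-- Only one element of `std σ K` has all descents in `K`. -/
theorem descents_unique {K : Set ι} {w w' : W} (hw : w ∈ std σ K) (hw' : w' ∈ std σ K)
    (h : ∀ i ∈ K, len σ (w * σ i) < len σ w) (h' : ∀ i ∈ K, len σ (w' * σ i) < len σ w') :
    w = w' := by
  have h1 := hσ.len_mul_of_descents hex h (mul_mem (inv_mem hw) hw')
  have h2 := hσ.len_mul_of_descents hex h' (mul_mem (inv_mem hw') hw)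
  rw [mul_inv_cancel_left] at h1 h2
  have h3 : len σ (w⁻¹ * w') = 0 := by omega
  exact inv_mul_eq_one.1 (hσ.len_eq_zero.1 h3)

/-- Some element of `std σ K` has all descents in `K`. -/
theorem exists_descents [Finite W] (hne : ∀ (i : ι) (w : W), len σ (σ i * w) ≠ len σ w)
    (K : Set ι) : ∃ w ∈ std σ K, ∀ i ∈ K, len σ (w * σ i) < len σ w := by
  obtain ⟨w, hw⟩ := Finite.exists_max (fun w : ↥(std σ K) => len σ (w : W))
  refine ⟨w, w.2, fun i hi => lt_of_le_of_ne
    (hw ⟨_, mul_mem w.2 (Subgroup.subset_closure ⟨i, hi, rfl⟩)⟩) fun e => ?_⟩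
  rw [hσ.len_mul_gen, ← hσ.len_inv (w : W)] at e
  exact hne i _ e

theorem longest_unique {w w' : W} (hw : IsLongest σ w) (hw' : IsLongest σ w') : w = w' := by
  have h1 := hσ.len_longest_mul hex hw (w⁻¹ * w')
  have h2 := hσ.len_longest_mul hex hw' (w'⁻¹ * w)
  rw [mul_inv_cancel_left] at h1 h2
  have h3 : len σ (w⁻¹ * w') = 0 := by omega
  exact inv_mul_eq_one.1 (hσ.len_eq_zero.1 h3)

variable (hne : ∀ (i : ι) (w : W), len σ (σ i * w) ≠ len σ w)
include hne

theorem longest_left {w : W} (hw : IsLongest σ w) (j : ι) : len σ (σ j * w) < len σ w := by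
  have h1 := hσ.len_longest_mul hex hw (w⁻¹ * (σ j * w))
  rw [mul_inv_cancel_left] at h1
  have := hne j w
  omega

omit hex in
theorem exists_longest [Finite W] : ∃ w, IsLongest σ w := by
  obtain ⟨w, hw⟩ := Finite.exists_max (fun w : W => len σ w)
  refine ⟨w, fun i => lt_of_le_of_ne (hw _) fun e => ?_⟩
  rw [hσ.len_mul_gen, ← hσ.len_inv w] at e
  exact hne i w⁻¹ e

end Gens

end CfsgLib.Coxeter
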