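import Mathlib

/-!
Groups generated by involutions with the exchange condition: reduced words, Matsumoto's theorem,
and the Coxeter presentation.
-/

set_option autoImplicit false

namespace CfsgLib.Coxeter

open Function Set

variable {W H : Type*} [Group W] [Group H] {ι : Type*}

/-- The product of a word. -/
def wprod (σ : ι → W) (L : List ι) : W := (L.map σ).prod

@[simp] lemma wprod_nil (σ : ι → W) : wprod σ [] = 1 := rfl

@[simp] lemma wprod_cons (σ : ι → W) (i : ι) (L : List ι) :
    wprod σ (i :: L) = σ i * wprod σ L := by simp [wprod]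

@[simp] lemma wprod_append (σ : ι → W) (L L' : List ι) :
    wprod σ (L ++ L') = wprod σ L * wprod σ L' := by simp [wprod]

/-- Involutions generating the group. -/
structure Gens (σ : ι → W) : Prop where
  sq : ∀ i, σ i * σ i = 1
  gen : Subgroup.closure (range σ) = ⊤

/-- The length with respect to `σ`. -/
noncomputable def len (σ : ι → W) (w : W) : ℕ :=
  sInf {n | ∃ L : List ι, L.length = n ∧ wprod σ L = w}

/-- A word of minimal length for its product. -/
def IsRed (σ : ι → W) (L : List ι) : Prop := len σ (wprod σ L) = L.length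

/-- The exchange condition. -/
def Exchange (σ : ι → W) : Prop :=
  ∀ (L : List ι) (i : ι), IsRed σ L → len σ (σ i * wprod σ L) ≤ L.length →
    ∃ j < L.length, σ i * wprod σ L = wprod σ (L.eraseIdx j)

variable {σ : ι → W}

lemma len_le (L : List ι) : len σ (wprod σ L) ≤ L.length :=
  Nat.sInf_le ⟨L, rfl, rfl⟩

lemma IsRed.nil : IsRed σ ([] : List ι) :=
  Nat.le_zero.1 (len_le (σ := σ) [])

namespace Gens

variable (hσ : Gens σ)
include hσ

lemma inv_eq (i : ι) : (σ i)⁻¹ = σ i := inv_eq_of_mul_eq_one_right (hσ.sq i)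

lemma cancel_left (i : ι) (w : W) : σ i * (σ i * w) = w := by rw [← mul_assoc, hσ.sq, one_mul]

lemma wprod_reverse (L : List ι) : wprod σ L.reverse = (wprod σ L)⁻¹ := by
  induction L with
  | nil => simp
  | cons a L ih => simp [ih, hσ.inv_eq]

lemma exists_word (w : W) : ∃ L : List ι, wprod σ L = w := by
  have hw : w ∈ Subgroup.closure (range σ) := by rw [hσ.gen]; exact Subgroup.mem_top w
  induction hw using Subgroup.closure_induction with
  | mem x hx => obtain ⟨i, rfl⟩ := hx; exact ⟨[i], by simp⟩
  | one => exact ⟨[], rfl⟩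
  | mul a b _ _ ha hb =>
    obtain ⟨A, rfl⟩ := ha; obtain ⟨B, rfl⟩ := hb; exact ⟨A ++ B, by simp⟩
  | inv a _ ha => obtain ⟨A, rfl⟩ := ha; exact ⟨A.reverse, hσ.wprod_reverse A⟩

lemma exists_red (w : W) : ∃ L : List ι, IsRed σ L ∧ wprod σ L = w ∧ L.length = len σ w := by
  obtain ⟨L₀, h₀⟩ := hσ.exists_word w
  obtain ⟨L, hl, hw⟩ := Nat.sInf_mem (s := {n | ∃ L : List ι, L.length = n ∧ wprod σ L = w})
    ⟨_, L₀, rfl, h₀⟩
  exact ⟨L, by rw [IsRed, hw]; exact hl.symm, hw, hl⟩

lemma len_mul_le (v w : W) : len σ (v * w) ≤ len σ v + len σ w := by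
  obtain ⟨A, -, rfl, hA⟩ := hσ.exists_red v
  obtain ⟨B, -, rfl, hB⟩ := hσ.exists_red w
  rw [← hA, ← hB, ← wprod_append, ← List.length_append]
  exact len_le _

lemma len_inv (w : W) : len σ w⁻¹ = len σ w := by
  have key : ∀ w, len σ w⁻¹ ≤ len σ w := fun w => by
    obtain ⟨L, -, rfl, hL⟩ := hσ.exists_red w
    rw [← hσ.wprod_reverse, ← hL, ← List.length_reverse]
    exact len_le _
  refine le_antisymm (key w) ?_
  conv_lhs => rw [← inv_inv w]
  exact key _

omit hσ in
lemma len_gen_le (i : ι) : len σ (σ i) ≤ 1 := by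
  have := len_le (σ := σ) [i]
  simpa using this

lemma len_gen_mul_le (i : ι) (w : W) : len σ (σ i * w) ≤ len σ w + 1 := by
  have := hσ.len_mul_le (σ i) w
  have := len_gen_le (σ := σ) i
  omega

lemma le_len_gen_mul (i : ι) (w : W) : len σ w ≤ len σ (σ i * w) + 1 := by
  have := hσ.len_gen_mul_le i (σ i * w)
  rwa [hσ.cancel_left] at this

lemma len_eq_zero {w : W} : len σ w = 0 ↔ w = 1 := by
  refine ⟨fun h => ?_, fun h => h ▸ IsRed.nil⟩
  obtain ⟨L, -, rfl, hL⟩ := hσ.exists_red w
  rw [h, List.length_eq_zero_iff] at hL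
  subst hL; rfl

lemma red_append {A B : List ι} (h : IsRed σ (A ++ B)) : IsRed σ A ∧ IsRed σ B := by
  have h1 := hσ.len_mul_le (wprod σ A) (wprod σ B)
  rw [← wprod_append, h, List.length_append] at h1
  have := len_le (σ := σ) A
  have := len_le (σ := σ) B
  exact ⟨by unfold IsRed; omega, by unfold IsRed; omega⟩

lemma red_tail {i : ι} {L : List ι} (h : IsRed σ (i :: L)) : IsRed σ L :=
  (hσ.red_append (A := [i]) h).2

lemma red_dropLast {L : List ι} (h : IsRed σ L) : IsRed σ L.dropLast := by
  rcases List.eq_nil_or_concat' L with rfl | ⟨A, a, rfl⟩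
  · exact h
  · rw [List.dropLast_concat]; exact (hσ.red_append h).1

/-- Exchange gives a shorter reduced word. -/
lemma exchange_red (hex : Exchange σ) {L : List ι} {i : ι} (hL : IsRed σ L)
    (h : len σ (σ i * wprod σ L) ≤ L.length) :
    ∃ j < L.length, σ i * wprod σ L = wprod σ (L.eraseIdx j) ∧ IsRed σ (L.eraseIdx j) := by
  obtain ⟨j, hj, e⟩ := hex L i hL h
  refine ⟨j, hj, e, ?_⟩
  have h1 := hσ.le_len_gen_mul i (wprod σ L)
  rw [hL, e] at h1
  have h2 := len_le (σ := σ) (L.eraseIdx j)
  rw [List.length_eraseIdx_of_lt hj] at h2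
  unfold IsRed
  rw [List.length_eraseIdx_of_lt hj]
  omega

/-- A word can be reduced inside its own letters. -/
lemma exists_red_subset (hex : Exchange σ) (L : List ι) :
    ∃ L' : List ι, IsRed σ L' ∧ wprod σ L' = wprod σ L ∧ ∀ a ∈ L', a ∈ L := by
  induction L with
  | nil => exact ⟨[], IsRed.nil, rfl, fun a ha => ha⟩
  | cons i L ih =>
    obtain ⟨L', hr, hp, hs⟩ := ih
    by_cases hc : len σ (σ i * wprod σ L') ≤ L'.length
    · obtain ⟨j, -, e, hr'⟩ := hσ.exchange_red hex hr hc
      exact ⟨_, hr', by rw [← e, hp, wprod_cons],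
        fun a ha => List.mem_cons_of_mem _ (hs a (List.mem_of_mem_eraseIdx ha))⟩
    · refine ⟨i :: L', ?_, by simp [hp], fun a ha => ?_⟩
      · have h1 := hσ.len_gen_mul_le i (wprod σ L')
        rw [hr] at h1
        unfold IsRed
        rw [wprod_cons, List.length_cons]
        omega
      · rcases List.mem_cons.1 ha with rfl | ha
        · exact List.mem_cons_self
        · exact List.mem_cons_of_mem _ (hs a ha)

end Gens

/-- An alternating word. -/
def alt : ℕ → ι → ι → List ι
  | 0, _, _ => []
  | k + 1, i, j => i :: alt k j i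

lemma length_alt : ∀ (k : ℕ) (i j : ι), (alt k i j).length = k
  | 0, _, _ => rfl
  | k + 1, i, j => by simp [alt, length_alt k j i]

lemma alt_prefix_succ : ∀ (k : ℕ) (i j : ι), alt k i j <+: alt (k + 1) i j
  | 0, _, _ => List.nil_prefix
  | k + 1, i, j => List.prefix_cons_inj i |>.2 (alt_prefix_succ k j i)

lemma wprod_alt (f : ι → H) (hf : ∀ i, f i * f i = 1) : ∀ (k : ℕ) (i j : ι),
    wprod f (alt k i j) * (wprod f (alt k j i))⁻¹ = (f i * f j) ^ k
  | 0, _, _ => by simp [alt]
  | k + 1, i, j => by
    have hinv : (f j)⁻¹ = f j := inv_eq_of_mul_eq_one_right (hf j)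
    simp only [alt, wprod_cons, _root_.mul_inv_rev, hinv]
    calc f i * wprod f (alt k j i) * ((wprod f (alt k i j))⁻¹ * f j)
        = f i * (wprod f (alt k j i) * (wprod f (alt k i j))⁻¹) * f j := by group
      _ = f i * (f j * f i) ^ k * f j := by rw [wprod_alt f hf k j i]
      _ = (f i * f j) ^ (k + 1) := by
        clear hinv
        induction k with
        | zero => simp
        | succ n ih => rw [pow_succ (f j * f i) n, pow_succ (f i * f j) (n + 1), ← ih]; group

section Matsumoto

variable (hσ : Gens σ) (hex : Exchange σ) (f : ι → H)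
  (hf : ∀ i j, (f i * f j) ^ orderOf (σ i * σ j) = 1)
include hσ hex hf

omit hex in
lemma f_sq (i : ι) : f i * f i = 1 := by
  have := hf i i
  rwa [hσ.sq, orderOf_one, pow_one] at this

/-- Matsumoto's theorem: reduced words with equal products have equal images. -/
theorem matsumoto : ∀ (A B : List ι), IsRed σ A → IsRed σ B → wprod σ A = wprod σ B →
    wprod f A = wprod f B := by
  suffices ∀ q, ∀ A B : List ι, A.length = q → IsRed σ A → IsRed σ B → wprod σ A = wprod σ B →
      wprod f A = wprod f B from fun A B => this _ A B rfl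
  intro q
  induction q using Nat.strong_induction_on with
  | _ q ih =>
    intro A B hA hrA hrB hAB
    have hlen : ∀ {X Y : List ι}, IsRed σ X → IsRed σ Y → wprod σ X = wprod σ Y →
        X.length = Y.length := fun hX hY e => by rw [← hX, ← hY, e]
    have hB : B.length = q := (hlen hrA hrB hAB).symm.trans hA
    by_cases hq : q = 0
    · subst hq
      rw [List.length_eq_zero_iff.1 hA, List.length_eq_zero_iff.1 hB]
    -- one exchange step
    have key : ∀ X Y : List ι, ∀ i, X.length = q → IsRed σ X → IsRed σ Y → [i] <+: X →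
        wprod σ X = wprod σ Y → wprod f X = wprod f Y ∨
          (IsRed σ (i :: Y.dropLast) ∧ wprod σ (i :: Y.dropLast) = wprod σ X ∧
            wprod f X = wprod f (i :: Y.dropLast)) := by
      intro X Y i hX hrX hrY hpre e
      have hY : Y.length = q := (hlen hrX hrY e).symm.trans hX
      obtain ⟨X', rfl⟩ := hpre
      simp only [List.singleton_append] at hX hrX e ⊢
      have hle : len σ (σ i * wprod σ Y) ≤ Y.length := by
        rw [← e, wprod_cons, hσ.cancel_left, hσ.red_tail hrX, hY, ← hX, List.length_cons]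
        omega
      obtain ⟨j, hj, e', hr'⟩ := hσ.exchange_red hex hrY hle
      have hC : wprod σ (i :: Y.eraseIdx j) = wprod σ (i :: X') := by
        rw [wprod_cons σ i (Y.eraseIdx j), ← e', hσ.cancel_left, e]
      have hCl : (i :: Y.eraseIdx j).length = q := by
        rw [List.length_cons, List.length_eraseIdx_of_lt hj]; omega
      have hrC : IsRed σ (i :: Y.eraseIdx j) := by
        unfold IsRed; rw [hC, hCl]; exact hrX.trans hX
      have hXC : wprod f (i :: X') = wprod f (i :: Y.eraseIdx j) := by
        rw [wprod_cons, wprod_cons]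
        refine congrArg (f i * ·) (ih (q - 1) (by omega) X' _ ?_ (hσ.red_tail hrX) hr' ?_)
        · rw [← hX, List.length_cons]; omega
        · exact mul_left_cancel (a := σ i) (by rw [← wprod_cons, ← wprod_cons, hC])
      by_cases hlast : j + 1 = q
      · right
        have he : Y.eraseIdx j = Y.dropLast := by
          rw [show j = Y.length - 1 by omega, List.eraseIdx_length_sub_one]
        rw [he] at hC hrC hXC
        exact ⟨hrC, hC, hXC⟩
      · left
        obtain ⟨Y', y, rfl⟩ := (List.eq_nil_or_concat' Y).resolve_left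
          (fun h0 => by rw [h0, List.length_nil] at hY; omega)
        simp only [List.length_append, List.length_singleton] at hY hj
        rw [List.eraseIdx_append_of_lt_length (by omega)] at hC hrC hXC hCl
        rw [← List.cons_append] at hC hrC hXC hCl
        rw [hXC, wprod_append f, wprod_append f]
        refine congrArg (· * wprod f [y]) (ih (q - 1) (by omega) _ _ ?_ (hσ.red_append hrC).1
          (hσ.red_append hrY).1 ?_)
        · rw [List.length_append, List.length_singleton] at hCl; omega
        · refine mul_right_cancel (b := wprod σ [y]) ?_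
          rw [← wprod_append σ, ← wprod_append σ, hC, e]
    -- the alternating recursion
    suffices G : ∀ d k i j, k + d = q → 1 ≤ k → ∀ X Y : List ι, X.length = q → IsRed σ X →
        IsRed σ Y → wprod σ X = wprod σ Y → alt k i j <+: X → alt k j i <+: Y →
        wprod f X = wprod f Y by
      obtain ⟨i, A', rfl⟩ := List.exists_cons_of_length_pos (l := A) (by omega)
      obtain ⟨j, B', rfl⟩ := List.exists_cons_of_length_pos (l := B) (by omega)
      exact G (q - 1) 1 i j (by omega) le_rfl _ _ hA hrA hrB hAB
        (by simp [alt]) (by simp [alt])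
    intro d
    induction d with
    | zero =>
      intro k i j hk _ X Y hX hrX hrY e hpX hpY
      have hY : Y.length = q := (hlen hrX hrY e).symm.trans hX
      obtain rfl : alt k i j = X := hpX.eq_of_length (by rw [length_alt]; omega)
      obtain rfl : alt k j i = Y := hpY.eq_of_length (by rw [length_alt]; omega)
      have h1 := wprod_alt σ hσ.sq k i j
      rw [e, mul_inv_cancel] at h1
      have h2 := wprod_alt f (f_sq hσ f hf) k i j
      obtain ⟨m, hm⟩ := orderOf_dvd_of_pow_eq_one h1.symm
      have h3 : (f i * f j) ^ k = 1 := by rw [hm, pow_mul, hf, one_pow]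
      rw [h3, mul_inv_eq_one] at h2
      exact h2
    | succ d ihd =>
      intro k i j hk h1 X Y hX hrX hrY e hpX hpY
      have hY : Y.length = q := (hlen hrX hrY e).symm.trans hX
      obtain ⟨k', rfl⟩ := Nat.exists_eq_add_of_le' h1
      have hi : [i] <+: X := (List.prefix_cons_inj i |>.2 List.nil_prefix).trans hpX
      rcases key X Y i hX hrX hrY hi e with h | ⟨hrC, hC, hXC⟩
      · exact h
      have hpC : alt (k' + 2) i j <+: i :: Y.dropLast :=
        List.prefix_cons_inj i |>.2 (List.prefix_of_prefix_length_le hpY Y.dropLast_prefix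
          (by rw [length_alt, List.length_dropLast]; omega))
      have hCl : (i :: Y.dropLast).length = q := by
        rw [List.length_cons, List.length_dropLast]; omega
      have hj : [j] <+: Y := (List.prefix_cons_inj j |>.2 List.nil_prefix).trans hpY
      rcases key Y (i :: Y.dropLast) j hY hrY hrC hj (e.symm.trans hC.symm) with h | ⟨hrD, hD, hYD⟩
      · exact hXC.trans h.symm
      have hpD : alt (k' + 2) j i <+: j :: (i :: Y.dropLast).dropLast :=
        List.prefix_cons_inj j |>.2 (List.prefix_of_prefix_length_le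
          ((alt_prefix_succ _ i j).trans hpC) (List.dropLast_prefix _)
          (by rw [length_alt, List.length_dropLast, hCl]; omega))
      rw [hXC, hYD]
      exact ihd (k' + 2) i j (by omega) (by omega) _ _ hCl hrC hrD
        (hC.trans (e.trans hD.symm)) hpC hpD

/-- The universal property of the presentation. -/
theorem exists_hom : ∃ φ : W →* H, ∀ i, φ (σ i) = f i := by
  let φ : W → H := fun w => wprod f (hσ.exists_red w).choose
  have hφ : ∀ L, IsRed σ L → φ (wprod σ L) = wprod f L := fun L hL => by
    obtain ⟨h1, h2, -⟩ := (hσ.exists_red (wprod σ L)).choose_spec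
    exact matsumoto hσ hex f hf _ _ h1 hL h2
  have hstep : ∀ i w, φ (σ i * w) = f i * φ w := by
    intro i w
    obtain ⟨L, hL, rfl, -⟩ := hσ.exists_red w
    by_cases hc : len σ (σ i * wprod σ L) ≤ L.length
    · obtain ⟨j, hj, e, hr⟩ := hσ.exchange_red hex hL hc
      have e' : wprod σ L = wprod σ (i :: L.eraseIdx j) := by
        rw [wprod_cons, ← e, hσ.cancel_left]
      have hr' : IsRed σ (i :: L.eraseIdx j) := by
        unfold IsRed
        rw [← e', hL, List.length_cons, List.length_eraseIdx_of_lt hj]
        omega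
      rw [e, hφ _ hr, hφ L hL, matsumoto hσ hex f hf _ _ hL hr' e', wprod_cons, ← mul_assoc,
        f_sq hσ f hf, one_mul]
    · have hr : IsRed σ (i :: L) := by
        have h1 := hσ.len_gen_mul_le i (wprod σ L)
        rw [hL] at h1
        unfold IsRed
        rw [wprod_cons, List.length_cons]
        omega
      rw [← wprod_cons, hφ _ hr, hφ L hL, wprod_cons]
  have h1 : φ 1 = 1 := (hφ [] IsRed.nil).trans (wprod_nil f)
  refine ⟨{ toFun := φ, map_one' := h1, map_mul' := fun v w => ?_ }, fun i => ?_⟩
  · obtain ⟨L, rfl⟩ := hσ.exists_word v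
    induction L generalizing w with
    | nil => simp [h1]
    | cons a L ih => rw [wprod_cons, mul_assoc, hstep, ih, ← mul_assoc, hstep]
  · show φ (σ i) = f i
    have := hstep i 1
    rwa [mul_one, h1, mul_one] at this

end Matsumoto

/-- The Coxeter matrix of distinct involutions. -/
noncomputable def matrixOf (hσ : Gens σ) (hinj : Injective σ) : CoxeterMatrix ι where
  M := Matrix.of fun i j => orderOf (σ i * σ j)
  isSymm := Matrix.IsSymm.ext fun i j => by
    simp only [Matrix.of_apply]
    rw [← orderOf_inv, _root_.mul_inv_rev, hσ.inv_eq, hσ.inv_eq]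
  diagonal i := by simp [hσ.sq]
  off_diagonal i j hij h := hij (hinj (by
    simp only [Matrix.of_apply, orderOf_eq_one_iff] at h
    rw [← mul_one (σ i), ← hσ.sq j, ← mul_assoc, h, one_mul]))

/-- A group generated by distinct involutions with the exchange condition is a Coxeter group. -/
theorem exists_coxeterSystem (hσ : Gens σ) (hinj : Injective σ) (hex : Exchange σ) :
    ∃ cs : CoxeterSystem (matrixOf hσ hinj) W, ∀ i, cs.simple i = σ i := by
  let M := matrixOf hσ hinj
  obtain ⟨φ, hφ⟩ := exists_hom hσ hex M.simple (fun i j => by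
    have := M.toCoxeterSystem.simple_mul_simple_pow i j
    simp only [CoxeterMatrix.toCoxeterSystem_simple] at this
    exact this)
  let ψ : M.Group →* W := PresentedGroup.toGroup (f := σ) (rels := M.relationsSet) (by
    rintro r ⟨⟨i, j⟩, rfl⟩
    simp only [Function.uncurry, CoxeterMatrix.relation, map_pow, map_mul, FreeGroup.lift_apply_of]
    exact pow_orderOf_eq_one _)
  have hψ : ∀ i, ψ (M.simple i) = σ i := fun i => PresentedGroup.toGroup.of _
  have h1 : ∀ w, ψ (φ w) = w := by
    intro w
    obtain ⟨L, rfl⟩ := hσ.exists_word w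
    induction L with
    | nil => simp
    | cons a L ih => rw [wprod_cons, map_mul, map_mul, hφ, hψ, ih]
  have h2 : φ.comp ψ = MonoidHom.id M.Group := by
    refine PresentedGroup.ext fun i => ?_
    show φ (ψ (M.simple i)) = M.simple i
    rw [hψ, hφ]
  refine ⟨⟨MonoidHom.toMulEquiv φ ψ (MonoidHom.ext h1) h2⟩, fun i => ?_⟩
  exact hψ i

end CfsgLib.Coxeter
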