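import Cfsg.Agent.Lib.Coxeter.Exchange

/-!
The operators of the Hecke algebra on functions on a finite group with the exchange condition,
and the dimension of its centre, which does not depend on the positive parameter.
-/

set_option autoImplicit false
set_option linter.unusedSectionVars false

namespace CfsgLib.Hecke

open CfsgLib.Coxeter Filter Topology
open scoped ComplexConjugate

variable {W : Type*} [Group W] {ι : Type*} (σ : ι → W)

open Classical in
/-- Left multiplication by a generator. -/
noncomputable def lgen (t : ℂ) (i : ι) : (W → ℂ) →ₗ[ℂ] (W → ℂ) where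
  toFun f x := if len σ (σ i * x) < len σ x then f (σ i * x) + (t - 1) * f x else t * f (σ i * x)
  map_add' f g := by funext x; simp only [Pi.add_apply]; split_ifs <;> ring
  map_smul' c f := by
    funext x; simp only [Pi.smul_apply, smul_eq_mul, RingHom.id_apply]; split_ifs <;> ring

/-- The reversal. -/
noncomputable def flip' : (W → ℂ) →ₗ[ℂ] (W → ℂ) := LinearMap.funLeft ℂ ℂ (fun x : W => x⁻¹)

/-- Right multiplication by a generator. -/
noncomputable def rgen (t : ℂ) (i : ι) : (W → ℂ) →ₗ[ℂ] (W → ℂ) :=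
  flip' ∘ₗ lgen σ t i ∘ₗ flip'

/-- Left multiplication along a word. -/
noncomputable def lop (t : ℂ) : List ι → ((W → ℂ) →ₗ[ℂ] (W → ℂ))
  | [] => LinearMap.id
  | i :: A => lgen σ t i ∘ₗ lop t A

/-- Right multiplication along a word. -/
noncomputable def rop (t : ℂ) (A : List ι) : (W → ℂ) →ₗ[ℂ] (W → ℂ) :=
  flip' ∘ₗ lop σ t A ∘ₗ flip'

/-- The centre. -/
noncomputable def center (t : ℂ) : Submodule ℂ (W → ℂ) :=
  LinearMap.ker (LinearMap.pi fun i => lgen σ t i - rgen σ t i)

lemma mem_center {t : ℂ} {z : W → ℂ} : z ∈ center σ t ↔ ∀ i, lgen σ t i z = rgen σ t i z := by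
  simp [center, funext_iff, sub_eq_zero]

variable {σ}

lemma flip_apply (f : W → ℂ) (x : W) : flip' f x = f x⁻¹ := rfl

lemma flip_flip (f : W → ℂ) : flip' (flip' f) = f := by
  funext x; simp [flip_apply]

lemma lop_nil (t : ℂ) (f : W → ℂ) : lop σ t [] f = f := rfl

lemma lop_cons (t : ℂ) (i : ι) (A : List ι) (f : W → ℂ) :
    lop σ t (i :: A) f = lgen σ t i (lop σ t A f) := rfl

lemma lop_append (t : ℂ) : ∀ (A B : List ι) (f : W → ℂ),
    lop σ t (A ++ B) f = lop σ t A (lop σ t B f)
  | [], _, _ => rfl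
  | i :: A, B, f => by rw [List.cons_append, lop_cons, lop_append t A B f]; rfl

lemma rop_cons (t : ℂ) (i : ι) (A : List ι) (f : W → ℂ) :
    rop σ t (i :: A) f = rgen σ t i (rop σ t A f) := by
  simp only [rop, rgen, LinearMap.comp_apply, flip_flip, lop_cons]

variable (hσ : Gens σ)
include hσ

lemma rgen_apply (t : ℂ) (i : ι) (f : W → ℂ) (x : W) :
    rgen σ t i f x =
      if len σ (x * σ i) < len σ x then f (x * σ i) + (t - 1) * f x else t * f (x * σ i) := by
  have e : (σ i * x⁻¹)⁻¹ = x * σ i := by rw [mul_inv_rev, inv_inv, hσ.inv_eq]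
  have e2 : len σ (σ i * x⁻¹) = len σ (x * σ i) := by rw [← e, hσ.len_inv]
  simp only [rgen, LinearMap.comp_apply, flip_apply, lgen, LinearMap.coe_mk, AddHom.coe_mk, e, e2,
    hσ.len_inv, inv_inv]

variable (hex : Exchange σ) (hne : ∀ i w, len σ (σ i * w) ≠ len σ w)
include hex hne

lemma len_right_ne (i : ι) (w : W) : len σ (w * σ i) ≠ len σ w := by
  intro e
  apply hne i w⁻¹
  rw [hσ.len_inv, ← hσ.len_inv (σ i * w⁻¹), mul_inv_rev, inv_inv, hσ.inv_eq, e]

/-- The square property. -/
lemma square_corner {x : W} {i j : ι} (hi : len σ x < len σ (σ i * x))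
    (hj : len σ x < len σ (x * σ j)) (h : len σ (σ i * x * σ j) ≤ len σ x) :
    σ i * x = x * σ j := by
  obtain ⟨L, hL, rfl, hlen⟩ := hσ.exists_red x
  have h1 := hσ.len_mul_le (wprod σ L) (σ j)
  have h2 := Gens.len_gen_le (σ := σ) j
  have hr : IsRed σ (L ++ [j]) := by
    unfold IsRed
    rw [wprod_append, show wprod σ [j] = σ j by simp, List.length_append, List.length_singleton]
    omega
  obtain ⟨k, hk, e⟩ := hex (L ++ [j]) i hr (by
    rw [List.length_append, List.length_singleton, wprod_append,
      show wprod σ [j] = σ j by simp, ← mul_assoc]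
    omega)
  rw [wprod_append, show wprod σ [j] = σ j by simp, ← mul_assoc] at e
  rw [List.length_append, List.length_singleton] at hk
  rcases Nat.lt_or_ge k L.length with hkl | hkl
  · exfalso
    rw [List.eraseIdx_append_of_lt_length hkl, wprod_append, show wprod σ [j] = σ j by simp,
      mul_left_inj] at e
    have h3 := len_le (σ := σ) (L.eraseIdx k)
    rw [← e, List.length_eraseIdx_of_lt hkl] at h3
    omega
  · obtain rfl : k = L.length := by omega
    rw [List.eraseIdx_append_of_length_le le_rfl, Nat.sub_self, List.eraseIdx_cons_zero,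
      List.append_nil] at e
    calc σ i * wprod σ L = σ i * wprod σ L * σ j * σ j := by rw [mul_assoc, hσ.sq, mul_one]
      _ = wprod σ L * σ j := by rw [e]

/-- Left and right multiplications commute. -/
lemma lgen_rgen (t : ℂ) (i j : ι) (f : W → ℂ) :
    lgen σ t i (rgen σ t j f) = rgen σ t j (lgen σ t i f) := by
  funext x
  simp only [lgen, LinearMap.coe_mk, AddHom.coe_mk, rgen_apply hσ, ← mul_assoc]
  have hA := hne i x
  have hB := len_right_ne hσ hex hne j x
  have hC := hne i (x * σ j)
  rw [← mul_assoc] at hC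
  have hD := len_right_ne hσ hex hne j (σ i * x)
  have bA : len σ x ≤ len σ (σ i * x) + 1 ∧ len σ (σ i * x) ≤ len σ x + 1 :=
    ⟨hσ.le_len_gen_mul i x, hσ.len_gen_mul_le i x⟩
  have bC : len σ (x * σ j) ≤ len σ (σ i * x * σ j) + 1 ∧
      len σ (σ i * x * σ j) ≤ len σ (x * σ j) + 1 := by
    rw [mul_assoc]; exact ⟨hσ.le_len_gen_mul i _, hσ.len_gen_mul_le i _⟩
  have bR : ∀ y, len σ y ≤ len σ (y * σ j) + 1 ∧ len σ (y * σ j) ≤ len σ y + 1 := fun y => by
    have h1 := hσ.len_mul_le y (σ j)
    have h2 := hσ.len_mul_le (y * σ j) (σ j)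
    rw [mul_assoc, hσ.sq, mul_one] at h2
    have := Gens.len_gen_le (σ := σ) j
    exact ⟨by omega, by omega⟩
  have bB := bR x
  have bD := bR (σ i * x)
  by_cases hsq : σ i * x = x * σ j
  · have e1 : σ i * x * σ j = x := by rw [hsq, mul_assoc, hσ.sq, mul_one]
    rw [e1] at hC hD ⊢
    rw [hsq] at hA ⊢
    all_goals (split_ifs <;> first | omega | ring)
  · have h1 : ¬(len σ x < len σ (σ i * x) ∧ len σ x < len σ (x * σ j) ∧
        len σ (σ i * x * σ j) ≤ len σ x) := fun ⟨a, b, c⟩ =>
      hsq (square_corner hσ hex hne a b c)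
    have h2 : ¬(len σ (σ i * x) < len σ x ∧ len σ (σ i * x) < len σ (σ i * x * σ j) ∧
        len σ (x * σ j) ≤ len σ (σ i * x)) := fun ⟨a, b, c⟩ => by
      have := square_corner hσ hex hne (x := σ i * x) (i := i) (j := j)
        (by rwa [hσ.cancel_left]) b (by rwa [hσ.cancel_left])
      rw [hσ.cancel_left] at this
      refine hsq ?_
      calc σ i * x = σ i * x * σ j * σ j := by rw [mul_assoc, hσ.sq, mul_one]
        _ = x * σ j := by rw [← this]
    have h3 : ¬(len σ (x * σ j) < len σ (σ i * x * σ j) ∧ len σ (x * σ j) < len σ x ∧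
        len σ (σ i * x) ≤ len σ (x * σ j)) := fun ⟨a, b, c⟩ => by
      have hxx : x * σ j * σ j = x := by rw [mul_assoc, hσ.sq, mul_one]
      have := square_corner hσ hex hne (x := x * σ j) (i := i) (j := j)
        (by rwa [← mul_assoc]) (by rwa [hxx]) (by rwa [mul_assoc, hxx])
      rw [hxx] at this
      refine hsq ?_
      calc σ i * x = σ i * (σ i * (x * σ j)) := by rw [this]
        _ = x * σ j := hσ.cancel_left _ _
    have h4 : ¬(len σ (σ i * x * σ j) < len σ (x * σ j) ∧
        len σ (σ i * x * σ j) < len σ (σ i * x) ∧ len σ x ≤ len σ (σ i * x * σ j)) :=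
      fun ⟨a, b, c⟩ => by
      have hxx : σ i * x * σ j * σ j = σ i * x := by rw [mul_assoc, hσ.sq, mul_one]
      have hyy : σ i * (σ i * x * σ j) = x * σ j := by rw [mul_assoc, hσ.cancel_left]
      have := square_corner hσ hex hne (x := σ i * x * σ j) (i := i) (j := j)
        (by rwa [hyy]) (by rwa [hxx]) (by rwa [hyy, mul_assoc x, hσ.sq, mul_one])
      rw [hxx, hyy] at this
      exact hsq this.symm
    split_ifs <;> first | omega | ring

open Classical in
/-- The delta functions. -/
noncomputable def single (w : W) : W → ℂ := fun x => if x = w then 1 else 0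

lemma lgen_single_up {t : ℂ} {i : ι} {w : W} (h : len σ w ≤ len σ (σ i * w)) :
    lgen σ t i (single w) = single (σ i * w) := by
  classical
  funext x
  have h' := lt_of_le_of_ne h (Ne.symm (hne i w))
  simp only [lgen, LinearMap.coe_mk, AddHom.coe_mk, single]
  have e : σ i * x = w ↔ x = σ i * w :=
    ⟨fun e => by rw [← e, hσ.cancel_left], fun e => by rw [e, hσ.cancel_left]⟩
  by_cases hx : x = σ i * w
  · subst hx
    rw [hσ.cancel_left, if_pos h']
    have hne' : σ i * w ≠ w := fun e => by rw [e] at h'; omega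
    simp [hne']
  · simp only [e, hx, if_false, zero_add, mul_zero]
    split_ifs with h1 h2
    · subst h2; omega
    · ring
    · rfl

lemma lop_single {t : ℂ} : ∀ {A : List ι}, IsRed σ A →
    lop σ t A (single 1) = single (wprod σ A)
  | [], _ => rfl
  | i :: A, hA => by
    rw [lop_cons, lop_single (hσ.red_tail hA), lgen_single_up hσ hex hne, wprod_cons]
    have h1 := hσ.red_tail hA
    unfold IsRed at hA h1
    rw [wprod_cons, List.length_cons] at hA
    omega

lemma lop_rgen (t : ℂ) (j : ι) : ∀ (A : List ι) (f : W → ℂ),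
    lop σ t A (rgen σ t j f) = rgen σ t j (lop σ t A f)
  | [], _ => rfl
  | i :: A, f => by rw [lop_cons, lop_rgen t j A f, lgen_rgen hσ hex hne]; rfl

lemma lop_rop (t : ℂ) (A : List ι) : ∀ (B : List ι) (f : W → ℂ),
    lop σ t A (rop σ t B f) = rop σ t B (lop σ t A f)
  | [], f => by
    simp only [rop, LinearMap.comp_apply, lop_nil, flip_flip]
  | i :: B, f => by rw [rop_cons, lop_rgen hσ hex hne, lop_rop t A B f, rop_cons]

lemma rop_single {t : ℂ} {A : List ι} (hA : IsRed σ A) :
    rop σ t A (single 1) = single (wprod σ A)⁻¹ := by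
  classical
  have h1 : flip' (single (1 : W)) = single 1 := by
    funext x; simp [flip_apply, single]
  simp only [rop, LinearMap.comp_apply, h1, lop_single hσ hex hne hA]
  funext x
  simp [flip_apply, single, inv_eq_iff_eq_inv]

/-- The chosen reduced word. -/
noncomputable def word (w : W) : List ι := (hσ.exists_red w).choose

lemma word_red (w : W) : IsRed σ (word hσ w) ∧ wprod σ (word hσ w) = w ∧
    (word hσ w).length = len σ w := (hσ.exists_red w).choose_spec

/-- Two left operators with the same value at the unit agree. -/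
lemma left_ext [Fintype W] {t : ℂ} {Φ Ψ : (W → ℂ) →ₗ[ℂ] (W → ℂ)}
    (hΦ : ∀ B f, Φ (rop σ t B f) = rop σ t B (Φ f))
    (hΨ : ∀ B f, Ψ (rop σ t B f) = rop σ t B (Ψ f))
    (h1 : Φ (single 1) = Ψ (single 1)) : Φ = Ψ := by
  classical
  refine LinearMap.pi_ext' fun w => LinearMap.ext_ring ?_
  simp only [LinearMap.comp_apply]
  have e : LinearMap.single ℂ (fun _ : W => ℂ) w 1 = single w := by
    funext x; simp [single, Pi.single_apply]
  rw [e]
  obtain ⟨hr, hw, -⟩ := word_red hσ hex hne w⁻¹
  have e2 : rop σ t (word hσ w⁻¹) (single 1) = single w := by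
    rw [rop_single hσ hex hne hr, hw, inv_inv]
  rw [← e2, hΦ, hΨ, h1]

lemma lgen_single_down {t : ℂ} {i : ι} {w : W} (h : len σ (σ i * w) < len σ w) :
    lgen σ t i (single w) = t • single (σ i * w) + (t - 1) • single w := by
  classical
  funext x
  simp only [lgen, LinearMap.coe_mk, AddHom.coe_mk, single, Pi.add_apply, Pi.smul_apply,
    smul_eq_mul]
  have e : σ i * x = w ↔ x = σ i * w :=
    ⟨fun e => by rw [← e, hσ.cancel_left], fun e => by rw [e, hσ.cancel_left]⟩
  have hne' : σ i * w ≠ w := fun e => by rw [e] at h; omega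
  by_cases hx : x = σ i * w
  · subst hx
    rw [hσ.cancel_left, if_neg (by omega)]
    simp [hne']
  · simp only [e, hx, if_false, zero_add, mul_zero]
    split_ifs with h1 h2 h3
    · rfl
    · rfl
    · subst h3; omega
    · ring

lemma lgen_lop_up [Fintype W] {t : ℂ} {i : ι} {w : W} (h : len σ w ≤ len σ (σ i * w)) :
    lgen σ t i ∘ₗ lop σ t (word hσ w) = lop σ t (word hσ (σ i * w)) := by
  refine left_ext hσ hex hne (t := t) (fun B f => ?_) (fun B f => lop_rop hσ hex hne t _ B f) ?_
  · exact lop_rop hσ hex hne t (i :: word hσ w) B f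
  · obtain ⟨h1, h2, -⟩ := word_red hσ hex hne w
    obtain ⟨h3, h4, -⟩ := word_red hσ hex hne (σ i * w)
    rw [LinearMap.comp_apply, lop_single hσ hex hne h1, h2, lop_single hσ hex hne h3, h4,
      lgen_single_up hσ hex hne h]

lemma lgen_lop_down [Fintype W] {t : ℂ} {i : ι} {w : W} (h : len σ (σ i * w) < len σ w) :
    lgen σ t i ∘ₗ lop σ t (word hσ w) =
      t • lop σ t (word hσ (σ i * w)) + (t - 1) • lop σ t (word hσ w) := by
  refine left_ext hσ hex hne (t := t) (fun B f => ?_) (fun B f => ?_) ?_
  · exact lop_rop hσ hex hne t (i :: word hσ w) B f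
  · simp [lop_rop hσ hex hne]
  · obtain ⟨h1, h2, -⟩ := word_red hσ hex hne w
    obtain ⟨h3, h4, -⟩ := word_red hσ hex hne (σ i * w)
    simp only [LinearMap.comp_apply, LinearMap.add_apply, LinearMap.smul_apply,
      lop_single hσ hex hne h1, h2, lop_single hσ hex hne h3, h4]
    exact lgen_single_down hσ hex hne h

lemma rgen_rop_up [Fintype W] {t : ℂ} {i : ι} {w : W} (h : len σ w ≤ len σ (σ i * w))
    (f : W → ℂ) :
    rgen σ t i (rop σ t (word hσ w) f) = rop σ t (word hσ (σ i * w)) f := by
  rw [← rop_cons]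
  simp only [rop, LinearMap.comp_apply]
  exact congrArg flip' (LinearMap.congr_fun (lgen_lop_up hσ hex hne h) (flip' f))

lemma rgen_rop_down [Fintype W] {t : ℂ} {i : ι} {w : W} (h : len σ (σ i * w) < len σ w)
    (f : W → ℂ) :
    rgen σ t i (rop σ t (word hσ w) f) =
      t • rop σ t (word hσ (σ i * w)) f + (t - 1) • rop σ t (word hσ w) f := by
  rw [← rop_cons]
  simp only [rop, LinearMap.comp_apply]
  have := congrArg flip' (LinearMap.congr_fun (lgen_lop_down hσ hex hne (t := t) h) (flip' f))
  simpa [lop_cons] using this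

variable [Fintype W]

/-- The Casimir operator. -/
noncomputable def casimir (t : ℂ) : (W → ℂ) →ₗ[ℂ] (W → ℂ) :=
  ∑ w : W, (t⁻¹) ^ len σ w • (lop σ t (word hσ w) ∘ₗ rop σ t (word hσ w))

lemma casimir_mem {t : ℂ} (ht : t ≠ 0) (z : W → ℂ) :
    casimir hσ t z ∈ center σ t := by
  classical
  rw [mem_center]
  intro i
  rw [← sub_eq_zero]
  simp only [casimir, LinearMap.sum_apply, LinearMap.smul_apply, map_sum, map_smul,
    ← Finset.sum_sub_distrib, ← smul_sub, LinearMap.comp_apply, ← lop_rgen hσ hex hne]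
  refine Finset.sum_involution (fun w _ => σ i * w) ?_ ?_ (fun w _ => Finset.mem_univ _)
    (fun w _ => hσ.cancel_left i w)
  · have key : ∀ w, len σ w < len σ (σ i * w) →
        (t⁻¹) ^ len σ w • (lgen σ t i (lop σ t (word hσ w) (rop σ t (word hσ w) z)) -
          lop σ t (word hσ w) (rgen σ t i (rop σ t (word hσ w) z))) +
        (t⁻¹) ^ len σ (σ i * w) • (lgen σ t i (lop σ t (word hσ (σ i * w))
            (rop σ t (word hσ (σ i * w)) z)) -
          lop σ t (word hσ (σ i * w)) (rgen σ t i (rop σ t (word hσ (σ i * w)) z))) = 0 := by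
      intro w hw
      have hl : len σ (σ i * w) = len σ w + 1 := by
        have := hσ.len_gen_mul_le i w; omega
      have hd : len σ (σ i * (σ i * w)) < len σ (σ i * w) := by rwa [hσ.cancel_left]
      have e1 := fun f => LinearMap.congr_fun (lgen_lop_up hσ hex hne (t := t) hw.le) f
      have e2 := fun f => LinearMap.congr_fun (lgen_lop_down hσ hex hne (t := t) hd) f
      simp only [LinearMap.comp_apply, LinearMap.add_apply, LinearMap.smul_apply,
        hσ.cancel_left] at e1 e2
      rw [e1, e2, rgen_rop_up hσ hex hne hw.le, rgen_rop_down hσ hex hne hd, hl]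
      simp only [hσ.cancel_left, map_add, map_smul]
      funext x
      simp only [Pi.add_apply, Pi.smul_apply, Pi.sub_apply, Pi.zero_apply, smul_eq_mul, pow_succ]
      field_simp
      ring
    intro w _
    rcases lt_or_gt_of_ne (hne i w) with hlt | hgt
    · have := key (σ i * w) (by rwa [hσ.cancel_left])
      rw [hσ.cancel_left] at this
      rw [add_comm]; exact this
    · exact key w hgt
  · intro w _ _ e
    exact hne i w (by rw [e])

lemma rop_center {t : ℂ} {z : W → ℂ} (hz : z ∈ center σ t) :
    ∀ A : List ι, rop σ t A z = lop σ t A.reverse z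
  | [] => by simp only [rop, LinearMap.comp_apply, lop_nil, flip_flip, List.reverse_nil]
  | i :: A => by
    rw [rop_cons, rop_center hz A, ← lop_rgen hσ hex hne, ← (mem_center σ).1 hz i,
      List.reverse_cons, lop_append]
    rfl

omit hσ hex hne in
/-- The inner product. -/
noncomputable def pairing (σ : ι → W) (t : ℝ) (f g : W → ℂ) : ℂ :=
  ∑ w, ((t : ℂ) ^ len σ w) * (f w * conj (g w))

lemma pairing_lgen (t : ℝ) (i : ι) (f g : W → ℂ) :
    pairing σ t (lgen σ (t : ℂ) i f) g = pairing σ t f (lgen σ (t : ℂ) i g) := by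
  classical
  rw [← sub_eq_zero, pairing, pairing, ← Finset.sum_sub_distrib]
  refine Finset.sum_involution (fun w _ => σ i * w) ?_ (fun w _ _ e => hne i w (by rw [e]))
    (fun w _ => Finset.mem_univ _) (fun w _ => hσ.cancel_left i w)
  have key : ∀ w, len σ w < len σ (σ i * w) →
      ((t : ℂ) ^ len σ w * (lgen σ (t : ℂ) i f w * conj (g w)) -
        (t : ℂ) ^ len σ w * (f w * conj (lgen σ (t : ℂ) i g w))) +
      ((t : ℂ) ^ len σ (σ i * w) * (lgen σ (t : ℂ) i f (σ i * w) * conj (g (σ i * w))) -
        (t : ℂ) ^ len σ (σ i * w) * (f (σ i * w) * conj (lgen σ (t : ℂ) i g (σ i * w)))) = 0 := by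
    intro w hw
    have hl : len σ (σ i * w) = len σ w + 1 := by
      have := hσ.len_gen_mul_le i w; omega
    simp only [lgen, LinearMap.coe_mk, AddHom.coe_mk, hσ.cancel_left, if_neg (not_lt.2 hw.le),
      if_pos hw, map_add, map_mul, map_sub, map_one, Complex.conj_ofReal]
    rw [hl, pow_succ]
    ring
  intro w _
  rcases lt_or_gt_of_ne (hne i w) with hlt | hgt
  · have := key (σ i * w) (by rwa [hσ.cancel_left])
    rw [hσ.cancel_left] at this
    rw [add_comm]; exact this
  · exact key w hgt

lemma pairing_lop (t : ℝ) : ∀ (A : List ι) (f g : W → ℂ),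
    pairing σ t (lop σ (t : ℂ) A f) g = pairing σ t f (lop σ (t : ℂ) A.reverse g)
  | [], _, _ => rfl
  | i :: A, f, g => by
    rw [lop_cons, pairing_lgen hσ hex hne, pairing_lop t A, List.reverse_cons, lop_append]
    rfl

lemma pairing_self (t : ℝ) (f : W → ℂ) :
    pairing σ t f f = ((∑ w, t ^ len σ w * Complex.normSq (f w) : ℝ) : ℂ) := by
  simp [pairing, Complex.mul_conj]

lemma casimir_inj {t : ℝ} (ht : 0 < t) {z : W → ℂ} (hz : z ∈ center σ (t : ℂ))
    (h : casimir hσ (t : ℂ) z = 0) : z = 0 := by
  classical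
  have h1 : pairing σ t (casimir hσ (t : ℂ) z) z = 0 := by rw [h]; simp [pairing]
  have h2 : ∑ w : W, (t⁻¹) ^ len σ w *
      (∑ x, t ^ len σ x *
        Complex.normSq (lop σ (t : ℂ) (word hσ w).reverse z x)) = 0 := by
    rw [← Complex.ofReal_eq_zero, ← h1, Complex.ofReal_sum]
    have e : ∀ w : W, ((t⁻¹ ^ len σ w *
        (∑ x, t ^ len σ x * Complex.normSq (lop σ (t : ℂ) (word hσ w).reverse z x)) : ℝ) : ℂ) =
        ((t : ℂ)⁻¹) ^ len σ w *
          pairing σ t (lop σ (t : ℂ) (word hσ w) (rop σ (t : ℂ) (word hσ w) z)) z := fun w => by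
      rw [rop_center hσ hex hne hz, pairing_lop hσ hex hne, pairing_self hσ hex hne]
      push_cast
      rfl
    rw [Finset.sum_congr rfl fun w _ => e w]
    simp only [casimir, LinearMap.sum_apply, LinearMap.smul_apply, LinearMap.comp_apply, pairing,
      Finset.sum_apply, Pi.smul_apply, smul_eq_mul, Finset.sum_mul, Finset.mul_sum]
    rw [Finset.sum_comm]
    exact Finset.sum_congr rfl fun x _ => Finset.sum_congr rfl fun w _ => by ring
  have h3 := (Finset.sum_eq_zero_iff_of_nonneg fun w _ => mul_nonneg (by positivity)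
    (Finset.sum_nonneg fun x _ => mul_nonneg (by positivity) (Complex.normSq_nonneg _))).1 h2 1
    (Finset.mem_univ _)
  have h1w : word hσ (1 : W) = [] := by
    have := (word_red hσ hex hne (1 : W)).2.2
    rwa [hσ.len_eq_zero.2 rfl, List.length_eq_zero_iff] at this
  rw [h1w, hσ.len_eq_zero.2 rfl, pow_zero, one_mul, List.reverse_nil] at h3
  funext x
  have h4 := (Finset.sum_eq_zero_iff_of_nonneg fun x _ =>
    mul_nonneg (by positivity) (Complex.normSq_nonneg _)).1 h3 x (Finset.mem_univ _)
  exact Complex.normSq_eq_zero.1 ((mul_eq_zero.1 h4).resolve_left (pow_pos ht _).ne')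

lemma range_casimir {t : ℝ} (ht : 0 < t) :
    LinearMap.range (casimir hσ (t : ℂ)) = center σ (t : ℂ) := by
  have ht' : (t : ℂ) ≠ 0 := Complex.ofReal_ne_zero.2 ht.ne'
  refine le_antisymm ?_ fun z hz => ?_
  · rintro _ ⟨z, rfl⟩; exact casimir_mem hσ hex hne ht' z
  · let Φ : ↥(center σ (t : ℂ)) →ₗ[ℂ] ↥(center σ (t : ℂ)) :=
      LinearMap.codRestrict _ (casimir hσ (t : ℂ) ∘ₗ (center σ (t : ℂ)).subtype)
        fun z => casimir_mem hσ hex hne ht' z
    have hinj : Function.Injective Φ := (injective_iff_map_eq_zero Φ).2 fun z hz =>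
      Subtype.ext (casimir_inj hσ hex hne ht z.2 (congrArg Subtype.val hz))
    obtain ⟨w, hw⟩ := LinearMap.injective_iff_surjective.1 hinj ⟨z, hz⟩
    exact ⟨w.1, congrArg Subtype.val hw⟩

lemma continuous_lop {X : Type*} [TopologicalSpace X] {c : X → ℂ} (hc : Continuous c) :
    ∀ (A : List ι) {g : X → W → ℂ}, Continuous g → Continuous fun x => lop σ (c x) A (g x)
  | [], _, hg => hg
  | i :: A, g, hg => by
    have ih := continuous_lop hc A hg
    refine continuous_pi fun w => ?_
    simp only [lop_cons, lgen, LinearMap.coe_mk, AddHom.coe_mk]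
    have h1 := (continuous_apply (σ i * w)).comp ih
    have h2 := (continuous_apply w).comp ih
    split_ifs
    · exact h1.add ((hc.sub continuous_const).mul h2)
    · exact hc.mul h1

omit hσ hex hne in
/-- The rank of a continuous family is lower semicontinuous. -/
lemma eventually_rank_le {X : Type*} [TopologicalSpace X] {V : Type*} [NormedAddCommGroup V]
    [NormedSpace ℂ V] [FiniteDimensional ℂ V] (A : X → (W → ℂ) →ₗ[ℂ] V)
    (hA : ∀ v, Continuous fun t => A t v) (t₀ : X) :
    ∀ᶠ t in 𝓝 t₀, Module.finrank ℂ (LinearMap.range (A t₀)) ≤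
      Module.finrank ℂ (LinearMap.range (A t)) := by
  let b := Module.finBasis ℂ (LinearMap.range (A t₀))
  choose v hv using fun k => LinearMap.mem_range.1 (b k).2
  have hli : LinearIndependent ℂ fun k => A t₀ (v k) := by
    simp only [hv]
    exact b.linearIndependent.map' _ (Submodule.ker_subtype _)
  have hop := ((isOpen_setOfPred_linearIndependent (𝕜 := ℂ) (E := V)
    (ι := Fin (Module.finrank ℂ (LinearMap.range (A t₀))))).preimage
    (continuous_pi fun k => hA (v k))).mem_nhds hli
  filter_upwards [hop] with t ht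
  have h2 : LinearIndependent ℂ fun k => (⟨A t (v k), ⟨_, rfl⟩⟩ : LinearMap.range (A t)) :=
    LinearIndependent.of_comp (LinearMap.range (A t)).subtype ht
  simpa using h2.fintype_card_le_finrank

/-- The dimension of the centre at a positive parameter is the class number. -/
theorem finrank_center [Finite ι] {q : ℕ} (hq : 0 < q) :
    Module.finrank ℂ (center σ (q : ℂ)) = Nat.card (ConjClasses W) := by
  classical
  have : Fintype ι := Fintype.ofFinite ι
  let X := {t : ℝ // 0 < t}
  set d : X → ℕ := fun t => Module.finrank ℂ (center σ ((t.1 : ℝ) : ℂ)) with hd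
  have hflip : ∀ g : X → W → ℂ, Continuous g → Continuous fun t => flip' (g t) := fun g hg =>
    continuous_pi fun w => (continuous_apply w⁻¹).comp hg
  have hc : Continuous fun t : X => ((t.1 : ℝ) : ℂ) :=
    Complex.continuous_ofReal.comp continuous_subtype_val
  have hcas : ∀ v : W → ℂ, Continuous fun t : X => casimir hσ ((t.1 : ℝ) : ℂ) v := by
    intro v
    simp only [casimir, LinearMap.sum_apply, LinearMap.smul_apply, LinearMap.comp_apply, rop]
    refine continuous_finsetSum _ fun w _ => ?_
    have h1 : Continuous fun t : X => (((t.1 : ℝ) : ℂ)⁻¹) ^ len σ w :=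
      (hc.inv₀ fun t => Complex.ofReal_ne_zero.2 t.2.ne').pow _
    have h2 := continuous_lop hσ hex hne hc (word hσ w)
      (hflip _ (continuous_lop hσ hex hne hc (word hσ w) (g := fun _ : X => flip' v) continuous_const))
    exact h1.smul h2
  have hloc : IsLocallyConstant d := by
    rw [IsLocallyConstant.iff_eventually_eq]
    intro t₀
    set Ad : X → (W → ℂ) →ₗ[ℂ] (ι → W → ℂ) := fun t =>
      LinearMap.pi fun i => lgen σ ((t.1 : ℝ) : ℂ) i - rgen σ ((t.1 : ℝ) : ℂ) i with hAd
    have hcont : ∀ v, Continuous fun t => Ad t v := fun v => continuous_pi fun i => by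
      simp only [hAd, LinearMap.pi_apply, LinearMap.sub_apply, rgen, LinearMap.comp_apply]
      exact (continuous_lop hσ hex hne hc [i] continuous_const).sub
        (hflip _ (continuous_lop hσ hex hne hc [i] continuous_const))
    filter_upwards [eventually_rank_le (fun t : X => casimir hσ ((t.1 : ℝ) : ℂ)) hcas t₀,
      eventually_rank_le Ad hcont t₀]
      with t h1 h2
    rw [range_casimir hσ hex hne t₀.2, range_casimir hσ hex hne t.2] at h1
    have e1 := LinearMap.finrank_range_add_finrank_ker (Ad t₀)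
    have e2 := LinearMap.finrank_range_add_finrank_ker (Ad t)
    have k1 : LinearMap.ker (Ad t₀) = center σ ((t₀.1 : ℝ) : ℂ) := rfl
    have k2 : LinearMap.ker (Ad t) = center σ ((t.1 : ℝ) : ℂ) := rfl
    rw [k1] at e1
    rw [k2] at e2
    simp only [hd]
    omega
  have : PreconnectedSpace X := Subtype.preconnectedSpace isPreconnected_Ioi
  have heq := hloc.apply_eq_of_isPreconnected isPreconnected_univ
    (x := ⟨(q : ℝ), by exact_mod_cast hq⟩) (y := ⟨1, one_pos⟩) trivial trivial
  simp only [hd, Complex.ofReal_natCast, Complex.ofReal_one] at heq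
  rw [heq]
  -- the class functions
  let J : (ConjClasses W → ℂ) →ₗ[ℂ] (W → ℂ) := LinearMap.funLeft ℂ ℂ ConjClasses.mk
  have hJ : LinearMap.range J = center σ (1 : ℂ) := by
    refine le_antisymm ?_ fun z hz => ?_
    · rintro _ ⟨f, rfl⟩
      rw [mem_center]
      intro i
      funext x
      simp only [lgen, LinearMap.coe_mk, AddHom.coe_mk, rgen_apply hσ, J, LinearMap.funLeft_apply,
        sub_self, zero_mul, add_zero, one_mul, ite_self]
      refine congrArg f (ConjClasses.mk_eq_mk_iff_isConj.2 (isConj_iff.2 ⟨σ i, ?_⟩))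
      rw [hσ.inv_eq, ← mul_assoc, hσ.sq, one_mul]
    · rw [mem_center] at hz
      have hcom : ∀ (g : W) x, z (g * x) = z (x * g) := by
        intro g
        obtain ⟨L, rfl⟩ := hσ.exists_word g
        induction L with
        | nil => simp
        | cons i L ih =>
          intro x
          have h1 := congrFun (hz i) (wprod σ L * x)
          simp only [lgen, LinearMap.coe_mk, AddHom.coe_mk, rgen_apply hσ, sub_self, zero_mul,
            add_zero, one_mul, ite_self] at h1
          rw [wprod_cons, mul_assoc, h1, mul_assoc, ih, mul_assoc]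
      refine ⟨fun c => Quotient.liftOn c z fun a b hab => ?_, rfl⟩
      obtain ⟨g, rfl⟩ := isConj_iff.1 hab
      rw [mul_assoc, hcom, mul_assoc, inv_mul_cancel, mul_one]
  rw [← (LinearEquiv.ofEq _ _ hJ).finrank_eq,
    LinearMap.finrank_range_of_inj (LinearMap.funLeft_injective_of_surjective _ _ _
    ConjClasses.mk_surjective), Module.finrank_pi, Nat.card_eq_fintype_card]

end CfsgLib.Hecke
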